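import Groth.Agent.GenFam.Sqz
import Groth.Agent.RelSpecLib.Vertex
import Groth.Agent.S8255
import Groth.Agent.Props.GenLocus
import Groth.Agent.Props.KilledSub
import Groth.Agent.Props.GenPull
import Groth.Agent.QCoh.Exact
import Groth.Prelude.Def_ClSub2
import Mathlib.AlgebraicGeometry.Morphisms.FiniteType
import Mathlib.AlgebraicGeometry.Properties

/-! The split ribbon `Spec (O ⊕ M)`. -/

set_option autoImplicit false
set_option backward.isDefEq.respectTransparency false
set_option backward.isDefEq.respectTransparency.types false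
set_option linter.style.haveILetI false

universe u

open CategoryTheory CategoryTheory.Limits AlgebraicGeometry TopologicalSpace Opposite TrivSqZeroExt
open RelSpec

noncomputable section

namespace Groth.Agent.SplitRibbon52

open Groth.Agent.QCoh Groth.Agent.GenFam Groth.Agent.Props.GenLocus Groth.Agent.Props.GenPull

variable {D : Scheme.{u}} (M : D.Modules) [M.IsQuasicoherent]

/-- The ribbon. -/
abbrev rib : Scheme.{u} := (sqz M).spec

/-- The projection. -/
abbrev p : rib M ⟶ D := (sqz M).π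

/-- The projection to the structure sheaf. -/
def retr : sqz M ⟶ QCAlg.unit D where
  hom :=
    { app := fun U => CommRingCat.ofHom
        (show Sq M U.unop →+* Γ(D, U.unop) from
          (TrivSqZeroExt.fstHom Γ(D, U.unop) Γ(D, U.unop) Γ(M, U.unop)).toRingHom)
      naturality := fun U V i => CommRingCat.hom_ext (RingHom.ext fun x => fst_sqRes M i.unop.le x) }
  comm := NatTrans.ext (funext fun U => CommRingCat.hom_ext (RingHom.ext fun r => TrivSqZeroExt.fst_inl (Γ(M, U.unop)) r))

lemma exists_section : ∃ s : D ⟶ rib M, s ≫ p M = 𝟙 D :=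
  (RelSpecLib.existsUnique_section (retr M)).exists.imp fun _ h => h.1

theorem p_injective : Function.Injective (p M) := by
  intro x y hxy
  obtain ⟨U, hU, hxU, -⟩ := exists_isAffineOpen_mem_and_subset (U := (⊤ : D.Opens)) (Opens.mem_top (p M x))
  have hx : x ∈ ((sqz M).ι U hU).opensRange := by rw [← QCAlg.π_preimage]; exact hxU
  have hy : y ∈ ((sqz M).ι U hU).opensRange := by
    rw [← QCAlg.π_preimage]; show p M y ∈ U; rw [← hxy]; exact hxU
  obtain ⟨a, rfl⟩ := hx
  obtain ⟨b, rfl⟩ := hy
  rw [← Scheme.Hom.comp_apply, ← Scheme.Hom.comp_apply, QCAlg.ι_π, Scheme.Hom.comp_apply,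
    Scheme.Hom.comp_apply] at hxy
  have hab := hU.fromSpec.isOpenEmbedding.injective hxy
  congr 1
  let a' : PrimeSpectrum (Sq M U) := a
  let b' : PrimeSpectrum (Sq M U) := b
  have h : ∀ q : PrimeSpectrum (Sq M U), ∀ z, z ∈ q.asIdeal ↔ inl z.fst ∈ q.asIdeal := fun q z => by
    have : (inr z.snd : Sq M U) ∈ q.asIdeal :=
      (or_self_iff.mp (q.2.mem_or_mem ((inr_mul_inr Γ(D, U) z.snd z.snd).symm ▸ q.asIdeal.zero_mem)))
    nth_rw 1 [← inl_fst_add_inr_snd_eq z]
    exact ⟨fun hz => by simpa using q.asIdeal.sub_mem hz this, fun hz => q.asIdeal.add_mem hz this⟩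
  show a' = b'
  refine PrimeSpectrum.ext (Ideal.ext fun z => ?_)
  rw [h a' z, h b' z]
  have := SetLike.ext_iff.mp (congrArg PrimeSpectrum.asIdeal hab) z.fst
  exact this

theorem locallyOfFiniteType_p (hM : PicF.IsInvertible M) : LocallyOfFiniteType (p M) := by
  choose U hxU e he using show ∀ x : D, ∃ (U : D.affineOpens), x ∈ U.1 ∧ ∃ e : Γ(M, U.1), IsGen M U.1 e from
    fun x => by
      obtain ⟨V, e, hxV, he⟩ := exists_isGen hM x
      obtain ⟨U, hU, hxU, hUV⟩ := exists_isAffineOpen_mem_and_subset hxV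
      exact ⟨⟨U, hU⟩, hxU, res M hUV e, he.restrict _⟩
  rw [IsZariskiLocalAtTarget.iff_of_iSup_eq_top (P := @LocallyOfFiniteType) (fun x => (U x).1)
    (top_le_iff.mp fun x _ => Opens.mem_iSup.mpr ⟨x, hxU x⟩)]
  intro x
  obtain ⟨⟨V, hV⟩, hxV⟩ : ∃ V, V = U x := ⟨_, rfl⟩
  obtain rfl : V = (U x).1 := congrArg Subtype.val hxV
  have e1 : p M ∣_ (U x).1 = ((rib M).isoOfEq ((sqz M).π_preimage _ hV)).hom ≫
      ((sqz M).ι _ hV).isoOpensRange.inv ≫ Spec.map ((sqz M).str.app (op (U x).1)) ≫ hV.isoSpec.inv := by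
    rw [← cancel_mono (U x).1.ι, morphismRestrict_ι]
    simp only [Category.assoc, IsAffineOpen.isoSpec_inv_ι]
    rw [← (sqz M).ι_π _ hV, Scheme.Hom.isoOpensRange_inv_comp_assoc, Scheme.isoOfEq_hom_ι_assoc]
  have hft : ((sqz M).str.app (op (U x).1)).hom.FiniteType := by
    let f : Γ(D, (U x).1) →+* Sq M (U x).1 := inlHom _ _
    let g : Polynomial Γ(D, (U x).1) →+* Sq M (U x).1 := Polynomial.eval₂RingHom f (inr (e x))
    have hfg : g.comp Polynomial.C = f := RingHom.ext fun r => Polynomial.eval₂_C _ _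
    have hg : Function.Surjective g := fun z => by
      obtain ⟨a, ha, -⟩ := (he x).exists_eq le_rfl z.snd
      rw [res_self] at ha
      refine ⟨Polynomial.C z.fst + Polynomial.C a * Polynomial.X, ?_⟩
      simp only [g, map_add, map_mul, Polynomial.coe_eval₂RingHom, Polynomial.eval₂_C, Polynomial.eval₂_X]
      show inl z.fst + inl a * inr (e x) = z
      rw [inl_mul_inr, ← ha, inl_fst_add_inr_snd_eq]
    show f.FiniteType
    rw [← hfg]
    exact (RingHom.FiniteType.of_surjective g hg).comp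
      (RingHom.finiteType_algebraMap.mpr inferInstance : (algebraMap Γ(D, (U x).1) (Polynomial Γ(D, (U x).1))).FiniteType)
  have : LocallyOfFiniteType (Spec.map ((sqz M).str.app (op (U x).1))) :=
    (HasRingHomProperty.Spec_iff (P := @LocallyOfFiniteType)).mpr hft
  show LocallyOfFiniteType (p M ∣_ (U x).1)
  rw [e1]
  infer_instance

variable (s : D ⟶ rib M) (hs : s ≫ p M = 𝟙 D)

include hs

lemma s_p (d : D) : p M (s d) = d := by
  rw [← Scheme.Hom.comp_apply, hs]; rfl

lemma s_surjective : Function.Surjective s := fun x => ⟨p M x, p_injective M (s_p M s hs _)⟩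

lemma isClosedImmersion_s : IsClosedImmersion s := by
  have : IsClosedImmersion (s ≫ p M) := by rw [hs]; infer_instance
  exact IsClosedImmersion.of_comp s (p M)

lemma preimage_eq (W : (rib M).Opens) : p M ⁻¹ᵁ (s ⁻¹ᵁ W) = W :=
  Opens.ext (Set.ext fun x => by
    obtain ⟨d, rfl⟩ := s_surjective M s hs x
    show s (p M (s d)) ∈ W ↔ s d ∈ W
    rw [s_p M s hs d])

lemma preimage_eq' (V : D.Opens) : s ⁻¹ᵁ (p M ⁻¹ᵁ V) = V := by
  rw [← Scheme.Hom.comp_preimage, hs]; rfl

/-- The sections over an arbitrary open. -/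
def γ (W : (rib M).Opens) : Γ(rib M, W) →+* Sq M (s ⁻¹ᵁ W) :=
  ((sqz M).gammaMap.app (op (s ⁻¹ᵁ W))).hom.comp (rres (preimage_eq M s hs W).le).hom

lemma γ_bijective (W : (rib M).Opens) : Function.Bijective (γ M s hs W) := by
  have := Groth.Agent.S8255.result (sqz M)
  show Function.Bijective ((((sqz M).gammaMap.app (op (s ⁻¹ᵁ W))).hom) ∘ ((rres (preimage_eq M s hs W).le).hom))
  refine (ConcreteCategory.bijective_of_isIso ((sqz M).gammaMap.app (op (s ⁻¹ᵁ W)))).comp ?_
  exact Function.bijective_iff_has_inverse.mpr ⟨rres (preimage_eq M s hs W).ge,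
    fun a => by rw [rres_rres, rres_self], fun a => by rw [rres_rres, rres_self]⟩

lemma γ_res {W W' : (rib M).Opens} (h : W' ≤ W) (a : Γ(rib M, W)) :
    γ M s hs W' (rres h a) = sqRes M (s.preimage_mono h) (γ M s hs W a) := by
  have h1 := ConcreteCategory.congr_hom ((sqz M).gammaMap.naturality (homOfLE (s.preimage_mono h)).op)
    (rres (preimage_eq M s hs W).le a)
  refine Eq.trans ?_ h1
  show ((sqz M).gammaMap.app (op (s ⁻¹ᵁ W'))).hom (rres (preimage_eq M s hs W').le (rres h a)) =
    ((sqz M).gammaMap.app (op (s ⁻¹ᵁ W'))).hom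
      (rres ((p M).preimage_mono (s.preimage_mono h)) (rres (preimage_eq M s hs W).le a))
  rw [rres_rres, rres_rres]

variable [IsReduced D]

/-- Pulling back along the section is the projection to the first factor. -/
lemma s_app_eq (W : (rib M).Opens) (a : Γ(rib M, W)) : s.app W a = (γ M s hs W a).fst := by
  let b : Γ(D, s ⁻¹ᵁ W) := (γ M s hs W a).fst
  let c : Γ(rib M, W) := rres (preimage_eq M s hs W).ge ((p M).app _ b)
  have hc : γ M s hs W c = inl b := by
    show ((sqz M).gammaMap.app (op (s ⁻¹ᵁ W))).hom (rres _ (rres _ ((p M).app _ b))) = _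
    rw [rres_rres, rres_self]
    exact congr($(NatTrans.congr_app (sqz M).π_c_gammaMap (op (s ⁻¹ᵁ W))).hom b)
  have hsc : s.app W c = b := by
    show s.app W (rres _ ((p M).app _ b)) = b
    rw [app_rres s]
    have h3 : s.app (p M ⁻¹ᵁ (s ⁻¹ᵁ W)) ((p M).app (s ⁻¹ᵁ W) b) = rres (preimage_eq' M s hs (s ⁻¹ᵁ W)).le b := by
      rw [← CommRingCat.comp_apply, ← Scheme.Hom.comp_app, Scheme.Hom.congr_app hs]
      rfl
    rw [h3, rres_rres, rres_self]
  have h0 : (a - c) * (a - c) = 0 := by
    refine (γ_bijective M s hs W).1 ?_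
    rw [map_mul, map_sub, map_zero, hc]
    ext
    · simp [b]
    · simp [b]
  have h1 : IsNilpotent (s.app W (a - c)) := ⟨2, by rw [pow_two, ← map_mul, h0, map_zero]⟩
  have h2 := h1.eq_zero
  rw [map_sub, hsc, sub_eq_zero] at h2
  exact h2

lemma mul_eq_zero_of_app_eq_zero (W : (rib M).Opens) {a b : Γ(rib M, W)} (ha : s.app W a = 0)
    (hb : s.app W b = 0) : a * b = 0 := by
  rw [s_app_eq M s hs] at ha hb
  refine (γ_bijective M s hs W).1 ?_
  rw [map_mul, map_zero]
  ext
  · rw [TrivSqZeroExt.fst_mul, ha, zero_mul]; rfl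
  · rw [TrivSqZeroExt.snd_mul, ha, hb, zero_smul, MulOpposite.op_zero, zero_smul, add_zero]; rfl

lemma ker_pow_two : s.ker ^ 2 = ⊥ := by
  have := isClosedImmersion_s M s hs
  refine Scheme.IdealSheafData.ext (funext fun W => ?_)
  rw [Scheme.IdealSheafData.ideal_pow, Scheme.IdealSheafData.ideal_bot, Pi.pow_apply, Pi.bot_apply,
    eq_bot_iff, pow_two, Ideal.mul_le, Scheme.Hom.ker_apply]
  intro a ha b hb
  exact Ideal.mem_bot.mpr (mul_eq_zero_of_app_eq_zero M s hs W.1 (RingHom.mem_ker.mp ha) (RingHom.mem_ker.mp hb))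

/-- `x ↦ inr x`. -/
def ψ : (Scheme.Modules.pushforward s).obj M ⟶ Coh.structureModule (rib M) :=
  ⟨PresheafOfModules.homMk
    { app := fun W => AddCommGrpCat.ofHom (show Γ(M, s ⁻¹ᵁ W.unop) →+ Γ(rib M, W.unop) from
        { toFun := fun x => (Equiv.ofBijective _ (γ_bijective M s hs W.unop)).symm (inr x)
          map_zero' := by
            rw [Equiv.symm_apply_eq, Equiv.ofBijective_apply, map_zero, inr_zero]
          map_add' := fun x y => by
            rw [Equiv.symm_apply_eq, Equiv.ofBijective_apply, map_add, inr_add]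
            congr 1 <;> exact ((Equiv.ofBijective _ (γ_bijective M s hs W.unop)).apply_symm_apply _).symm })
      naturality := fun {W W'} i => by
        ext x
        let x' : Γ(M, s ⁻¹ᵁ W.unop) := x
        let E := Equiv.ofBijective _ (γ_bijective M s hs W.unop)
        show (Equiv.ofBijective _ (γ_bijective M s hs W'.unop)).symm (inr (res M (s.preimage_mono i.unop.le) x')) =
          rres i.unop.le (E.symm (inr x'))
        have hE : γ M s hs W.unop (E.symm (inr x')) = inr x' := E.apply_symm_apply _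
        rw [Equiv.symm_apply_eq, Equiv.ofBijective_apply, γ_res, hE]
        ext
        · rw [fst_sqRes, fst_inr, fst_inr, map_zero]
        · rw [snd_sqRes, snd_inr, snd_inr] }
    (fun W r x => by
      let r' : Γ(rib M, W.unop) := r
      let x' : Γ(M, s ⁻¹ᵁ W.unop) := x
      show (Equiv.ofBijective _ (γ_bijective M s hs W.unop)).symm (inr (s.app W.unop r' • x')) =
        r' * (Equiv.ofBijective _ (γ_bijective M s hs W.unop)).symm (inr x')
      have hE : γ M s hs W.unop ((Equiv.ofBijective _ (γ_bijective M s hs W.unop)).symm (inr x')) = inr x' :=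
        (Equiv.ofBijective _ (γ_bijective M s hs W.unop)).apply_symm_apply _
      rw [Equiv.symm_apply_eq, Equiv.ofBijective_apply, map_mul, hE, s_app_eq M s hs]
      ext
      · simp
      · simp)⟩

lemma γ_ψ (W : (rib M).Opens) (x : Γ(M, s ⁻¹ᵁ W)) : γ M s hs W ((ψ M s hs).app W x) = inr x :=
  (Equiv.ofBijective _ (γ_bijective M s hs W)).apply_symm_apply (inr x)

/-- The ideal of the section is `s_* M`. -/
theorem exists_iso_idealMod :
    Nonempty ((Scheme.Modules.pushforward s).obj M ≅ ClSub.idealMod s.ker) := by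
  have := isClosedImmersion_s M s hs
  let ι₀ := s.ker.subschemeι
  have hι : ∀ (W : (rib M).Opens) (a : Γ(rib M, W)), s.app W a = 0 ↔ ι₀.app W a = 0 := fun W a => by
    rw [Scheme.Hom.congr_app s.toImage_imageι.symm W, Scheme.Hom.comp_app, CommRingCat.comp_apply,
      CommRingCat.comp_apply]
    constructor
    · intro h
      apply (ConcreteCategory.bijective_of_isIso (s.toImage.app (ι₀ ⁻¹ᵁ W))).1
      apply (ConcreteCategory.bijective_of_isIso
        (D.presheaf.map (eqToHom (congrArg (fun f : D ⟶ rib M => f ⁻¹ᵁ W) s.toImage_imageι.symm)).op)).1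
      refine h.trans ?_
      rw [map_zero, map_zero]
    · intro h
      rw [h, map_zero, map_zero]
  have hψ0 : ψ M s hs ≫ ClSub.toSubscheme s.ker = 0 := by
    ext W x
    show ι₀.app W ((ψ M s hs).app W x) = 0
    rw [← hι, s_app_eq M s hs, γ_ψ, fst_inr]
  let l := kernel.lift (ClSub.toSubscheme s.ker) (ψ M s hs) hψ0
  have hl : ∀ (W : (rib M).Opens) (x : Γ(M, s ⁻¹ᵁ W)),
      (ClSub.idealModι s.ker).app W (l.app W x) = (ψ M s hs).app W x := fun W x =>
    congr(($(kernel.lift_ι (ClSub.toSubscheme s.ker) (ψ M s hs) hψ0)).app W x)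
  have : IsIso l := by
    rw [Scheme.Modules.Hom.isIso_iff_isIso_app]
    intro W
    rw [ConcreteCategory.isIso_iff_bijective]
    refine ⟨fun x y hxy => ?_, fun m => ?_⟩
    · have := (congrArg (fun z => γ M s hs W ((ClSub.idealModι s.ker).app W z)) hxy)
      dsimp only at this
      rw [hl, hl, γ_ψ, γ_ψ] at this
      exact inr_injective this
    · let a : Γ(rib M, W) := (ClSub.idealModι s.ker).app W m
      have h0 : ι₀.app W a = 0 :=
        congr(($(kernel.condition (ClSub.toSubscheme s.ker))).app W m)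
      rw [← hι, s_app_eq M s hs] at h0
      haveI : Mono (ClSub.idealModι s.ker) := inferInstanceAs (Mono (kernel.ι (ClSub.toSubscheme s.ker)))
      refine ⟨(γ M s hs W a).snd, app_injective_of_mono (ClSub.idealModι s.ker) W ?_⟩
      rw [hl]
      refine (γ_bijective M s hs W).1 ?_
      rw [γ_ψ]
      ext
      · rw [fst_inr, h0]
      · rw [snd_inr]
  exact ⟨asIso l⟩

theorem exists_iso_pullback_idealMod :
    Nonempty ((Scheme.Modules.pullback s).obj (ClSub.idealMod s.ker) ≅ M) := by
  have := isClosedImmersion_s M s hs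
  obtain ⟨e⟩ := exists_iso_idealMod M s hs
  exact ⟨(Scheme.Modules.pullback s).mapIso e.symm ≪≫
    asIso ((Scheme.Modules.pullbackPushforwardAdjunction s).counit.app M)⟩

end Groth.Agent.SplitRibbon52

end
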